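import Mathlib

/-!
# Primitive prime divisors and Zsigmondy's theorem for `a ^ n - 1`

`IsPPD r a n` says that `r` is a primitive prime divisor of `a ^ n - 1`.
-/

open Polynomial

namespace CfsgLib.NumberTheory

/-- `r` is a primitive prime divisor of `a ^ n - 1`. -/
def IsPPD (r a n : ℕ) : Prop :=
  r.Prime ∧ r ∣ a ^ n - 1 ∧ ∀ k : ℕ, 0 < k → k < n → ¬ r ∣ a ^ k - 1

/-- A prime divides `a ^ k - 1` iff the multiplicative order of `a` modulo it divides `k`. -/
theorem dvd_pow_sub_one_iff_orderOf_dvd {p a : ℕ} (ha : 1 ≤ a) (k : ℕ) :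
    p ∣ a ^ k - 1 ↔ orderOf (a : ZMod p) ∣ k := by
  rw [orderOf_dvd_iff_pow_eq_one, ← ZMod.natCast_eq_zero_iff, Nat.cast_sub (Nat.one_le_pow _ _ ha), sub_eq_zero, Nat.cast_pow, Nat.cast_one]

theorem isPPD_iff_orderOf {r a n : ℕ} (hr : r.Prime) (ha : 1 ≤ a) (hn : 0 < n) :
    IsPPD r a n ↔ orderOf (a : ZMod r) = n := by
  simp only [IsPPD, dvd_pow_sub_one_iff_orderOf_dvd ha]
  constructor
  · rintro ⟨-, hdvd, hmin⟩
    rcases (Nat.le_of_dvd hn hdvd).lt_or_eq with h | h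
    · exact absurd dvd_rfl (hmin _ (Nat.pos_of_dvd_of_pos hdvd hn) h)
    · exact h
  · intro h
    refine ⟨hr, h ▸ dvd_rfl, fun k hk hkn hdvd => ?_⟩
    have := Nat.le_of_dvd hk hdvd
    omega

theorem IsPPD.prime {r a n : ℕ} (h : IsPPD r a n) : r.Prime := h.1

theorem IsPPD.orderOf_eq {r a n : ℕ} (h : IsPPD r a n) (ha : 1 ≤ a) (hn : 0 < n) :
    orderOf (a : ZMod r) = n := (isPPD_iff_orderOf h.1 ha hn).1 h

theorem IsPPD.dvd_pow_sub_one_iff {r a n : ℕ} (h : IsPPD r a n) (ha : 1 ≤ a) (hn : 0 < n) (k : ℕ) :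
    r ∣ a ^ k - 1 ↔ n ∣ k := by
  rw [dvd_pow_sub_one_iff_orderOf_dvd ha, h.orderOf_eq ha hn]

theorem IsPPD.not_dvd_base {r a n : ℕ} (h : IsPPD r a n) (ha : 1 ≤ a) (hn : 0 < n) :
    ¬ r ∣ a := by
  intro hra
  have h1 : r ∣ a ^ n := dvd_pow hra hn.ne'
  have h2 : r ∣ 1 := by
    have := Nat.dvd_sub h1 h.2.1
    rwa [Nat.sub_sub_self (Nat.one_le_pow _ _ ha)] at this
  exact h.1.ne_one (Nat.dvd_one.1 h2)

theorem IsPPD.dvd_sub_one {r a n : ℕ} (h : IsPPD r a n) (ha : 1 ≤ a) (hn : 0 < n) :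
    n ∣ r - 1 := by
  have : Fact r.Prime := ⟨h.1⟩
  rw [← h.orderOf_eq ha hn]
  refine ZMod.orderOf_dvd_card_sub_one ?_
  rw [Ne, ZMod.natCast_eq_zero_iff]
  exact h.not_dvd_base ha hn

theorem IsPPD.lt {r a n : ℕ} (h : IsPPD r a n) (ha : 1 ≤ a) (hn : 0 < n) : n < r := by
  have h1 := h.dvd_sub_one ha hn
  have h2 := h.1.two_le
  have := Nat.le_of_dvd (by omega) h1
  omega

/-- The value `Φ_n(a)` of the `n`-th cyclotomic polynomial, as a natural number. -/
noncomputable def phiVal (n a : ℕ) : ℕ := ((cyclotomic n ℤ).eval (a : ℤ)).natAbs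

theorem cast_phiVal {n a : ℕ} (ha : 1 < a) :
    (phiVal n a : ℝ) = (cyclotomic n ℝ).eval (a : ℝ) := by
  have h : (cyclotomic n ℝ).eval (a : ℝ) = (((cyclotomic n ℤ).eval (a : ℤ) : ℤ) : ℝ) := by
    have := cyclotomic.eval_apply (a : ℤ) n (algebraMap ℤ ℝ)
    simpa using this
  have hpos : 0 ≤ (cyclotomic n ℤ).eval (a : ℤ) :=
    cyclotomic_nonneg n (by exact_mod_cast ha.le)
  rw [phiVal, h, ← Int.cast_natCast (R := ℝ), Int.natAbs_of_nonneg hpos]

theorem sub_one_pow_totient_lt_phiVal {n a : ℕ} (hn : 1 < n) (ha : a ≠ 1) :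
    (a - 1) ^ n.totient < phiVal n a :=
  sub_one_pow_totient_lt_natAbs_cyclotomic_eval hn ha

theorem phiVal_le_add_one_pow_totient {n a : ℕ} (ha : 1 < a) :
    phiVal n a ≤ (a + 1) ^ n.totient := by
  rw [← Nat.cast_le (α := ℝ), cast_phiVal ha]
  push_cast
  exact cyclotomic_eval_le_add_one_pow_totient (q := (a : ℝ)) (by exact_mod_cast ha) n

theorem phiVal_dvd_pow_sub_one {n a : ℕ} (ha : 1 ≤ a) : phiVal n a ∣ a ^ n - 1 := by
  have h := eval_dvd (x := (a : ℤ)) (cyclotomic.dvd_X_pow_sub_one n ℤ)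
  simp only [eval_sub, eval_pow, eval_X, eval_one] at h
  rw [phiVal, ← Int.natCast_dvd_natCast, Int.natAbs_dvd, Nat.cast_sub (Nat.one_le_pow _ _ ha)]
  exact_mod_cast h

/-- A prime divisor `p` of `Φ_n(a)` has `n = p ^ k * ord_p a`. -/
theorem exists_eq_pow_mul_orderOf {p n a : ℕ} (hp : p.Prime) (hn : 0 < n)
    (h : p ∣ phiVal n a) :
    ∃ k : ℕ, n = p ^ k * orderOf (a : ZMod p) ∧ ¬ p ∣ orderOf (a : ZMod p) := by
  have : Fact p.Prime := ⟨hp⟩
  obtain ⟨k, m, hm, rfl⟩ := Nat.exists_eq_pow_mul_and_not_dvd hn.ne' p hp.ne_one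
  have : NeZero ((m : ℕ) : ZMod p) := ⟨by rwa [Ne, ZMod.natCast_eq_zero_iff]⟩
  have hroot : (cyclotomic (p ^ k * m) (ZMod p)).IsRoot (a : ZMod p) := by
    have h' : (p : ℤ) ∣ (cyclotomic (p ^ k * m) ℤ).eval (a : ℤ) := Int.natCast_dvd.2 h
    rw [← ZMod.intCast_zmod_eq_zero_iff_dvd] at h'
    have := cyclotomic.eval_apply (a : ℤ) (p ^ k * m) (Int.castRingHom (ZMod p))
    simp only [eq_intCast, Int.cast_natCast] at this
    rw [IsRoot.def, this, h']
  rw [isRoot_cyclotomic_prime_pow_mul_iff_of_charP] at hroot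
  exact ⟨k, by rw [← hroot.eq_orderOf], by rwa [← hroot.eq_orderOf]⟩

theorem orderOf_dvd_sub_one_of_dvd_phiVal {p n a : ℕ} (hp : p.Prime) (hn : 0 < n)
    (h : p ∣ phiVal n a) : orderOf (a : ZMod p) ∣ p - 1 := by
  have : Fact p.Prime := ⟨hp⟩
  obtain ⟨k, hk, hnd⟩ := exists_eq_pow_mul_orderOf hp hn h
  refine ZMod.orderOf_dvd_card_sub_one fun h0 => ?_
  rw [h0, orderOf_zero (ZMod p)] at hnd
  exact hnd (dvd_zero p)

private theorem geom_sum_zmod_sq {p : ℕ} (_hp : p.Prime) (hodd : Odd p) (t : ZMod (p ^ 2)) :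
    ∑ i ∈ Finset.range p, (1 + (p : ZMod (p ^ 2)) * t) ^ i = (p : ZMod (p ^ 2)) := by
  have hpp : (p : ZMod (p ^ 2)) * p = 0 := by
    rw [← Nat.cast_mul, ← pow_two, ZMod.natCast_self]
  have hpow : ∀ i : ℕ, (1 + (p : ZMod (p ^ 2)) * t) ^ i = 1 + (i : ZMod (p ^ 2)) * p * t := by
    intro i
    induction i with
    | zero => simp
    | succ i ih =>
      rw [Nat.cast_succ, pow_succ (1 + (p : ZMod (p ^ 2)) * t) i, ih]
      linear_combination (i : ZMod (p ^ 2)) * t * t * hpp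
  simp only [hpow, Finset.sum_add_distrib, Finset.sum_const, Finset.card_range, nsmul_one,
    ← Finset.sum_mul]
  obtain ⟨j, hj⟩ := hodd
  have hsum : ∑ i ∈ Finset.range p, i = p * j := by
    have h := Finset.sum_range_id_mul_two p
    have hpj : p - 1 = j * 2 := by omega
    rw [hpj, ← mul_assoc] at h
    exact mul_right_cancel₀ two_ne_zero h
  rw [← Nat.cast_sum, hsum, Nat.cast_mul]
  linear_combination (j : ZMod (p ^ 2)) * t * hpp

/-- A prime `p` dividing both `n` and `Φ_n(a)` does so only to the first power, for `n > 2`. -/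
theorem not_sq_dvd_phiVal {p n a : ℕ} (hp : p.Prime) (hn : 2 < n) (ha : 1 < a) (hpn : p ∣ n)
    (h : p ∣ phiVal n a) : ¬ p ^ 2 ∣ phiVal n a := by
  intro hsq
  have : Fact p.Prime := ⟨hp⟩
  obtain ⟨k, hk, hnd⟩ := exists_eq_pow_mul_orderOf hp (by omega) h
  have hm := orderOf_dvd_sub_one_of_dvd_phiVal hp (by omega) h
  generalize hm' : orderOf (a : ZMod p) = m at *
  have hk0 : k ≠ 0 := by
    rintro rfl
    simp only [pow_zero, one_mul] at hk
    exact hnd (hk ▸ hpn)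
  obtain ⟨d, hd⟩ := hpn
  have hdpos : 0 < d := by
    rcases Nat.eq_zero_or_pos d with rfl | h0
    · omega
    · exact h0
  have hdn : d < n := by
    rw [hd]
    exact lt_mul_of_one_lt_left hdpos hp.one_lt
  have hdmem : d ∈ n.properDivisors := Nat.mem_properDivisors.2 ⟨⟨p, by rw [hd]; ring⟩, hdn⟩
  have hmul : ((a : ℤ) ^ d - 1) * (cyclotomic n ℤ).eval (a : ℤ) ∣ ((a : ℤ) ^ d) ^ p - 1 := by
    have h1 := eval_dvd (x := (a : ℤ))
      (X_pow_sub_one_mul_cyclotomic_dvd_X_pow_sub_one_of_dvd ℤ hdmem)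
    simp only [eval_mul, eval_sub, eval_pow, eval_X, eval_one] at h1
    rwa [← pow_mul, mul_comm d p, ← hd]
  rw [← mul_geom_sum ((a : ℤ) ^ d) p] at hmul
  have hb1 : ((a : ℤ) ^ d - 1) ≠ 0 := by
    have : (1 : ℤ) < (a : ℤ) ^ d := one_lt_pow₀ (by exact_mod_cast ha) hdpos.ne'
    omega
  rw [mul_dvd_mul_iff_left hb1] at hmul
  have hsq' : ((p : ℤ) ^ 2) ∣ (cyclotomic n ℤ).eval (a : ℤ) := by
    rw [← Nat.cast_pow]
    exact Int.natCast_dvd.2 hsq
  have hgeom := hsq'.trans hmul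
  rcases hp.eq_two_or_odd' with rfl | hodd
  · -- here `n` is a power of two
    have hm1 : m = 1 := by simpa using hm
    obtain ⟨k', rfl⟩ := Nat.exists_eq_succ_of_ne_zero hk0
    rw [hm1, mul_one] at hk
    have hk' : k' ≠ 0 := by
      rintro rfl
      simp at hk
      omega
    have hd2 : d = 2 ^ k' := by
      rw [hd, pow_succ'] at hk
      exact mul_left_cancel₀ two_ne_zero hk
    obtain ⟨c, hc⟩ : 2 ∣ d := hd2 ▸ dvd_pow_self 2 hk'
    have hodd : Odd (a : ℤ) := by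
      rcases Int.even_or_odd (a : ℤ) with he | ho
      · exfalso
        have h2 : (2 : ℤ) ∣ (a : ℤ) ^ d + 1 := by
          rw [Finset.sum_range_succ, Finset.sum_range_one] at hgeom
          have : (2:ℤ) ∣ ((2 : ℕ) : ℤ) ^ 2 := by norm_num
          simpa [add_comm] using this.trans hgeom
        have h3 : (2 : ℤ) ∣ (a : ℤ) ^ d := dvd_pow he.two_dvd hdpos.ne'
        omega
      · exact ho
    obtain ⟨e, he⟩ := hodd.pow (n := c)
    rw [Finset.sum_range_succ, Finset.sum_range_one, hc, mul_comm 2 c, pow_mul, he] at hgeom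
    have h4 : (4 : ℤ) ∣ 4 * (e * e + e) + 2 := by
      have h5 : ((2 * e + 1) ^ 2 : ℤ) = 4 * (e * e + e) + 1 := by ring
      push_cast at hgeom
      rw [h5] at hgeom
      norm_num at hgeom ⊢
      omega
    omega
  · -- odd `p`
    have hb : (p : ℤ) ∣ (a : ℤ) ^ d - 1 := by
      have : m ∣ d := by
        have h5 : m ∣ p * d := by rw [← hd, hk]; exact dvd_mul_left _ _
        exact ((hp.coprime_iff_not_dvd.2 hnd).symm).dvd_of_dvd_mul_left h5
      rw [← ZMod.intCast_zmod_eq_zero_iff_dvd]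
      push_cast
      rw [orderOf_dvd_iff_pow_eq_one.1 (hm' ▸ this), sub_self]
    obtain ⟨t, ht⟩ := hb
    rw [← Nat.cast_pow, ← ZMod.intCast_zmod_eq_zero_iff_dvd, eq_add_of_sub_eq' ht] at hgeom
    push_cast at hgeom
    rw [geom_sum_zmod_sq hp hodd, ZMod.natCast_eq_zero_iff] at hgeom
    have := Nat.le_of_dvd hp.pos hgeom
    have := hp.two_le
    nlinarith

theorem phiVal_pow_mul {p m : ℕ} (hp : p.Prime) (a : ℕ) : ∀ j : ℕ,
    phiVal (p ^ (j + 1) * m) a = phiVal (p * m) (a ^ p ^ j) := by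
  intro j
  induction j generalizing a with
  | zero => simp
  | succ j ih =>
    have h1 : phiVal (p ^ (j + 1 + 1) * m) a = phiVal (p ^ (j + 1) * m) (a ^ p) := by
      rw [phiVal, phiVal, show p ^ (j + 1 + 1) * m = p ^ (j + 1) * m * p by ring,
        ← cyclotomic_expand_eq_cyclotomic hp (Dvd.dvd.mul_right (dvd_pow_self p (by omega)) m) ℤ,
        expand_eval, Nat.cast_pow]
    rw [h1, ih, ← pow_mul, ← pow_succ']

private theorem three_mul_lt_two_pow : ∀ p : ℕ, 4 ≤ p → 3 * p < 2 ^ p - 1 := by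
  intro p hp
  induction p, hp using Nat.le_induction with
  | base => norm_num
  | succ p hp ih => rw [pow_succ]; omega

/-- **Zsigmondy's theorem** for `n > 2`. -/
theorem exists_isPPD_of_two_lt {a n : ℕ} (ha : 1 < a) (hn : 2 < n) (h6 : ¬ (a = 2 ∧ n = 6)) :
    ∃ r : ℕ, IsPPD r a n := by
  by_contra hno
  push Not at hno
  have hn0 : 0 < n := by omega
  have hkey : ∀ q : ℕ, q.Prime → q ∣ phiVal n a →
      ∃ k m : ℕ, n = q ^ k * m ∧ k ≠ 0 ∧ m ∣ q - 1 ∧ m = orderOf (a : ZMod q) := by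
    intro q hq hqd
    obtain ⟨k, hk, -⟩ := exists_eq_pow_mul_orderOf hq hn0 hqd
    refine ⟨k, _, hk, ?_, orderOf_dvd_sub_one_of_dvd_phiVal hq hn0 hqd, rfl⟩
    rintro rfl
    rw [pow_zero, one_mul] at hk
    exact hno q ((isPPD_iff_orderOf hq ha.le hn0).2 hk.symm)
  have hlow := sub_one_pow_totient_lt_phiVal (a := a) (show 1 < n by omega) (by omega)
  have hphi1 : 1 < phiVal n a := by
    have : 1 ≤ (a - 1) ^ n.totient := Nat.one_le_pow _ _ (by omega)
    omega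
  obtain ⟨p, hp, hpd⟩ := Nat.exists_prime_and_dvd hphi1.ne'
  obtain ⟨k, m, hnm, hk, hm, hmo⟩ := hkey p hp hpd
  have hpn : p ∣ n := hnm ▸ Dvd.dvd.mul_right (dvd_pow_self p hk) m
  have hbig : ∀ q r : ℕ, q.Prime → r.Prime → q ∣ phiVal n a → r ∣ n → r ≤ q := by
    intro q r hq hr hqd hrn
    obtain ⟨k', m', hnm', -, hm', -⟩ := hkey q hq hqd
    rw [hnm'] at hrn
    rcases hr.dvd_mul.1 hrn with h1 | h1
    · exact Nat.le_of_dvd hq.pos (hr.dvd_of_dvd_pow h1)
    · have := Nat.le_of_dvd (by have := hq.two_le; omega) (h1.trans hm')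
      omega
  have heq : phiVal n a = p := by
    have huniq : ∀ q : ℕ, q.Prime → q ∣ phiVal n a → q = p := by
      intro q hq hqd
      obtain ⟨k', m', hnm', hk', -, -⟩ := hkey q hq hqd
      exact le_antisymm
        (hbig p q hp hq hpd (hnm' ▸ Dvd.dvd.mul_right (dvd_pow_self q hk') m'))
        (hbig q p hq hp hqd hpn)
    obtain ⟨c, hc⟩ := hpd
    by_cases hc1 : c = 1
    · rw [hc, hc1, mul_one]
    · obtain ⟨q, hq, hqc⟩ := Nat.exists_prime_and_dvd hc1
      have hqp : q = p := huniq q hq (hc ▸ hqc.mul_left p)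
      refine absurd ?_ (not_sq_dvd_phiVal hp hn ha hpn ⟨c, hc⟩)
      rw [hc, pow_two]
      exact mul_dvd_mul_left p (hqp ▸ hqc)
  have htot : p - 1 ∣ n.totient := Nat.totient_prime hp ▸ Nat.totient_dvd_of_dvd hpn
  have htot' : p - 1 ≤ n.totient := Nat.le_of_dvd (Nat.totient_pos.2 hn0) htot
  have hp2 : p - 1 < 2 ^ (p - 1) := Nat.lt_two_pow_self
  rw [heq] at hlow
  by_cases ha3 : 3 ≤ a
  · have : 2 ^ (p - 1) ≤ (a - 1) ^ n.totient :=
      (Nat.pow_le_pow_right two_pos htot').trans (Nat.pow_le_pow_left (by omega) _)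
    omega
  obtain rfl : a = 2 := by omega
  obtain ⟨j, rfl⟩ := Nat.exists_eq_succ_of_ne_zero hk
  have hm0 : 0 < m := Nat.pos_of_ne_zero (by rintro rfl; simp at hnm; omega)
  by_cases hj : j = 0
  · subst hj
    simp only [Nat.succ_eq_add_one, zero_add, pow_one] at hnm
    have hp_ne : p ≠ 2 := by
      rintro rfl
      have h1 : m = 1 := by simpa using hm
      rw [h1] at hnm
      omega
    have : Fact p.Prime := ⟨hp⟩
    have hm1 : 1 < m := by
      by_contra hm1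
      have h1 : orderOf ((2 : ℕ) : ZMod p) = 1 := by omega
      rw [orderOf_eq_one_iff, ← Nat.cast_one, ZMod.natCast_eq_natCast_iff] at h1
      have h2 := Nat.le_of_dvd (by norm_num) ((Nat.modEq_iff_dvd' (by norm_num)).1 h1.symm)
      have := hp.two_le
      omega
    by_cases hp3 : p = 3
    · subst hp3
      have hm2 : m ≤ 2 := Nat.le_of_dvd two_pos (by simpa using hm)
      exact h6 ⟨rfl, by omega⟩
    have hp4 : 4 ≤ p := by have := hp.two_le; omega
    have hndvd : ¬ p ∣ m := fun h => by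
      have := Nat.le_of_dvd (by omega) hm
      have := Nat.le_of_dvd hm0 h
      omega
    have hprod : phiVal m (2 ^ p) = p * phiVal m 2 := by
      have h1 : phiVal n 2 * phiVal m 2 = phiVal m (2 ^ p) := by
        rw [phiVal, phiVal, phiVal, ← Int.natAbs_mul, hnm, mul_comm p m,
          ← eval_mul, ← cyclotomic_expand_eq_cyclotomic_mul hp hndvd ℤ, expand_eval,
          Nat.cast_pow]
      rw [← h1, heq]
    have hup : phiVal m 2 ≤ 3 ^ m.totient := phiVal_le_add_one_pow_totient one_lt_two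
    have hlo : (2 ^ p - 1) ^ m.totient < phiVal m (2 ^ p) :=
      sub_one_pow_totient_lt_phiVal hm1 (by have := Nat.one_lt_two_pow (show p ≠ 0 by omega); omega)
    have h3p : (3 * p) ^ m.totient ≤ (2 ^ p - 1) ^ m.totient :=
      Nat.pow_le_pow_left (three_mul_lt_two_pow p hp4).le _
    have hpp : p ≤ p ^ m.totient := Nat.le_self_pow (Nat.totient_pos.2 hm0).ne' p
    have : p * phiVal m 2 ≤ (3 * p) ^ m.totient := by
      rw [mul_pow, mul_comm (3 ^ _)]
      exact Nat.mul_le_mul hpp hup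
    omega
  · have h1 : phiVal (p * m) (2 ^ p ^ j) = p := by
      rw [← phiVal_pow_mul hp 2 j, ← hnm, heq]
    have h4 : 4 ≤ 2 ^ p ^ j :=
      le_trans (by norm_num) (Nat.pow_le_pow_right two_pos
        (show 2 ≤ p ^ j from le_trans hp.two_le (Nat.le_self_pow hj p)))
    have hpm : 1 < p * m := lt_of_lt_of_le hp.one_lt (Nat.le_mul_of_pos_right p hm0)
    have h5 := sub_one_pow_totient_lt_phiVal (a := 2 ^ p ^ j) hpm (by omega)
    have h6 : p - 1 ≤ (p * m).totient := Nat.le_of_dvd (Nat.totient_pos.2 (by omega))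
      (Nat.totient_prime hp ▸ Nat.totient_dvd_of_dvd (dvd_mul_right p m))
    have h7 : 2 ^ (p - 1) ≤ (2 ^ p ^ j - 1) ^ (p * m).totient :=
      (Nat.pow_le_pow_right two_pos h6).trans (Nat.pow_le_pow_left (by omega) _)
    omega

/-- **Zsigmondy's theorem**: `a ^ n - 1` has a primitive prime divisor, with the usual
exceptions. -/
theorem exists_isPPD {a n : ℕ} (ha : 1 < a) (hn : 1 < n) (h6 : ¬ (a = 2 ∧ n = 6))
    (h2 : ¬ (n = 2 ∧ ∃ m : ℕ, a + 1 = 2 ^ m)) : ∃ r : ℕ, IsPPD r a n := by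
  rcases Nat.lt_or_ge 2 n with h | h
  · exact exists_isPPD_of_two_lt ha h h6
  obtain rfl : n = 2 := by omega
  rcases Nat.eq_two_pow_or_exists_odd_prime_and_dvd (a + 1) with ⟨m, hm⟩ | ⟨r, hr, hrd, hodd⟩
  · exact absurd ⟨rfl, m, hm⟩ h2
  refine ⟨r, hr, ?_, fun k hk hk2 hrk => ?_⟩
  · have : a ^ 2 - 1 = (a + 1) * (a - 1) := by simpa using Nat.sq_sub_sq a 1
    exact this ▸ hrd.mul_right _
  · obtain rfl : k = 1 := by omega
    have h2' : r ∣ 2 := by
      have := Nat.dvd_sub hrd hrk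
      rwa [pow_one, show a + 1 - (a - 1) = 2 by omega] at this
    exact hr.ne_one ((Nat.prime_dvd_prime_iff_eq hr Nat.prime_two).1 h2' ▸ hodd |> fun h => absurd h (by decide))

end CfsgLib.NumberTheory
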