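import Mathlib

/-!
# Three primes in `(m, 2 m]` for `m ≥ 9`
-/

namespace CfsgLib.NumberTheory

theorem centralBinom_le_of_two_primes (m : ℕ) (hm : 2 < m) (T : Finset ℕ) (hT : T.card ≤ 2)
    (h : ∀ x : ℕ, x.Prime → m < x → x ≤ 2 * m → x ∈ T) :
    m.centralBinom ≤ (2 * m) ^ 2 * ((2 * m) ^ Nat.sqrt (2 * m) * 4 ^ (2 * m / 3)) := by
  classical
  have m2_pos : 1 ≤ 2 * m := by omega
  let f : ℕ → ℕ := fun x => x ^ m.centralBinom.factorization x
  have hf2 : ∀ x, f x ≤ 2 * m := fun x => Nat.pow_factorization_choose_le (by omega)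
  have hne : ∀ x, f x ≠ 1 → x.Prime := fun x hx => by
    by_contra hnp
    exact hx (by simp [f, Nat.factorization_eq_zero_of_not_prime _ hnp])
  rw [← m.prod_pow_factorization_centralBinom]
  change ∏ x ∈ Finset.range (2 * m + 1), f x ≤ _
  rw [← Finset.prod_filter_mul_prod_filter_not (Finset.range (2 * m + 1)) (fun x => 2 * m / 3 < x)]
  apply mul_le_mul'
  · calc _ ≤ ∏ x ∈ (Finset.range (2 * m + 1)).filter (fun x => 2 * m / 3 < x),
          (if x ∈ T then 2 * m else 1) := by
          refine Finset.prod_le_prod' fun x hx => ?_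
          by_cases hxp : x ∈ T
          · simp [hxp, hf2]
          · rw [if_neg hxp]
            by_contra hfx
            rw [Finset.mem_filter, Finset.mem_range] at hx
            have hx' := hne x (by omega)
            rcases le_or_gt x m with h1 | h1
            · exact hfx (by simp [f,
                Nat.factorization_centralBinom_of_two_mul_self_lt_three_mul hm h1
                  (show 2 * m < 3 * x by omega)])
            · exact hxp (h x hx' h1 (by omega))
      _ ≤ (2 * m) ^ 2 := by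
          rw [← Finset.prod_filter, Finset.prod_const]
          exact Nat.pow_le_pow_right m2_pos ((Finset.card_le_card fun x hx =>
            (Finset.mem_filter.1 hx).2).trans hT)
  · let S := {x ∈ Finset.range (2 * m / 3 + 1) | Nat.Prime x}
    have hS : ∏ x ∈ (Finset.range (2 * m + 1)).filter (fun x => ¬ 2 * m / 3 < x), f x
        = ∏ x ∈ S, f x := by
      refine (Finset.prod_subset ?_ ?_).symm
      · intro x hx
        simp only [S, Finset.mem_filter, Finset.mem_range] at hx ⊢
        omega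
      · intro x hx hxS
        by_contra hfx
        simp only [S, Finset.mem_filter, Finset.mem_range] at hx hxS
        exact hxS ⟨by omega, hne x hfx⟩
    rw [hS, ← Finset.prod_filter_mul_prod_filter_not S (· ≤ Nat.sqrt (2 * m))]
    apply mul_le_mul'
    · refine (Finset.prod_le_prod' fun x _ => hf2 x).trans ?_
      rw [Finset.prod_const]
      refine pow_right_mono₀ m2_pos ((Finset.card_le_card (t := Finset.Icc 1 (Nat.sqrt (2 * m)))
        fun x hx => ?_).trans (by rw [Nat.card_Icc, Nat.add_sub_cancel]))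
      obtain ⟨h1, h2⟩ := Finset.mem_filter.1 hx
      exact Finset.mem_Icc.mpr ⟨(Finset.mem_filter.1 h1).2.one_lt.le, h2⟩
    · refine le_trans ?_ (primorial_le_four_pow (2 * m / 3))
      refine (Finset.prod_le_prod' fun x hx => (?_ : f x ≤ x)).trans ?_
      · obtain ⟨h1, h2⟩ := Finset.mem_filter.1 hx
        refine (pow_right_mono₀ (Finset.mem_filter.1 h1).2.one_lt.le ?_).trans (pow_one x).le
        exact Nat.factorization_choose_le_one (Nat.sqrt_lt'.mp <| not_le.1 h2)
      refine Finset.prod_le_prod_of_subset_of_one_le' (Finset.filter_subset _ _) ?_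
      exact fun x hx _ => (Finset.mem_filter.1 hx).2.one_lt.le

private theorem pow_two_bound : ∀ k : ℕ, 7 ≤ k → 12 * k + 15 ≤ 2 ^ k := by
  intro k hk
  induction k, hk using Nat.le_induction with
  | base => norm_num
  | succ k hk ih => rw [pow_succ]; omega

theorem three_primes_inequality {m : ℕ} (hm : 8192 ≤ m) :
    m * ((2 * m) ^ 2 * ((2 * m) ^ Nat.sqrt (2 * m) * 4 ^ (2 * m / 3))) ≤ 4 ^ m := by
  set s := Nat.sqrt (2 * m) with hs
  have hs128 : 128 ≤ s := by rw [hs, Nat.le_sqrt]; omega
  set k := Nat.log 2 s with hk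
  have hk7 : 7 ≤ k := Nat.le_log_of_pow_le (by norm_num) (by simpa using hs128)
  have hks : 2 ^ k ≤ s := Nat.pow_log_le_self 2 (by omega)
  have hsk : s < 2 ^ (k + 1) := Nat.lt_pow_succ_log_self (by norm_num) s
  have h2m : 2 * m ≤ 2 ^ (2 * k + 2) := by
    have h1 : 2 * m < (s + 1) ^ 2 := Nat.lt_succ_sqrt' _
    have h2 : (s + 1) ^ 2 ≤ (2 ^ (k + 1)) ^ 2 := Nat.pow_le_pow_left hsk 2
    rw [← pow_mul] at h2
    rw [show 2 * k + 2 = (k + 1) * 2 by ring]
    omega
  have hexp : (2 * k + 2) * (s + 3) + 2 * (2 * m / 3) ≤ 2 * m := by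
    have h2 : 12 * k + 15 ≤ s := (pow_two_bound k hk7).trans hks
    have h3 : s * s ≤ 2 * m := Nat.sqrt_le _
    have h4 : (2 * k + 2) * (s + 3) * 3 ≤ s * s := by
      nlinarith [Nat.mul_le_mul_right s h2]
    omega
  calc m * ((2 * m) ^ 2 * ((2 * m) ^ s * 4 ^ (2 * m / 3)))
      ≤ (2 * m) * ((2 * m) ^ 2 * ((2 * m) ^ s * 4 ^ (2 * m / 3))) :=
        Nat.mul_le_mul_right _ (by omega)
    _ = (2 * m) ^ (s + 3) * 2 ^ (2 * (2 * m / 3)) := by rw [pow_mul]; norm_num; ring
    _ ≤ (2 ^ (2 * k + 2)) ^ (s + 3) * 2 ^ (2 * (2 * m / 3)) :=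
        Nat.mul_le_mul_right _ (Nat.pow_le_pow_left h2m _)
    _ = 2 ^ ((2 * k + 2) * (s + 3) + 2 * (2 * m / 3)) := by rw [← pow_mul, ← pow_add]
    _ ≤ 2 ^ (2 * m) := Nat.pow_le_pow_right (by norm_num) hexp
    _ = 4 ^ m := by rw [pow_mul]; norm_num

theorem three_le_card_primes_large {m : ℕ} (hm : 8192 ≤ m) :
    3 ≤ ((Finset.Icc (m + 1) (2 * m)).filter Nat.Prime).card := by
  by_contra hlt
  push Not at hlt
  have h1 := Nat.four_pow_lt_mul_centralBinom m (by omega)
  have h2 := centralBinom_le_of_two_primes m (by omega)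
    ((Finset.Icc (m + 1) (2 * m)).filter Nat.Prime) (by omega)
    (fun x hx hmx hx2 => Finset.mem_filter.2 ⟨Finset.mem_Icc.2 ⟨hmx, hx2⟩, hx⟩)
  have h3 := (Nat.mul_le_mul_left m h2).trans (three_primes_inequality hm)
  omega

private theorem three_primes_step {m : ℕ} (a b c e : ℕ) (hb : b.Prime) (hc : c.Prime) (he : e.Prime)
    (hbc : b < c) (hce : c < e) (hcov : e ≤ 2 * a)
    (H : m < a → ∃ p r q : ℕ, p.Prime ∧ r.Prime ∧ q.Prime ∧ m < p ∧ p < r ∧ r < q ∧ q ≤ 2 * m)
    (h : m < b) :
    ∃ p r q : ℕ, p.Prime ∧ r.Prime ∧ q.Prime ∧ m < p ∧ p < r ∧ r < q ∧ q ≤ 2 * m := by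
  by_cases hma : m < a
  · exact H hma
  · exact ⟨b, c, e, hb, hc, he, h, hbc, hce, by omega⟩

/-- There are at least three primes in `(m, 2 m]` for `m ≥ 9`. -/
theorem three_primes (m : ℕ) (hm : 9 ≤ m) :
    ∃ p r q : ℕ, p.Prime ∧ r.Prime ∧ q.Prime ∧ m < p ∧ p < r ∧ r < q ∧ q ≤ 2 * m := by
  rcases le_or_gt 8192 m with h | h
  · have h3 := three_le_card_primes_large h
    set S := (Finset.Icc (m + 1) (2 * m)).filter Nat.Prime with hS
    have hne : S.Nonempty := Finset.card_pos.1 (by omega)
    have hmin : S.min' hne ∈ S := Finset.min'_mem _ _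
    have hmax : S.max' hne ∈ S := Finset.max'_mem _ _
    obtain ⟨r, hr⟩ : ((S.erase (S.min' hne)).erase (S.max' hne)).Nonempty := by
      rw [← Finset.card_pos]
      have h4 := Finset.pred_card_le_card_erase (s := S.erase (S.min' hne)) (a := S.max' hne)
      have h5 := Finset.card_erase_of_mem hmin
      omega
    simp only [Finset.mem_erase] at hr
    obtain ⟨hr1, hr2, hr3⟩ := hr
    have h6 := lt_of_le_of_ne (Finset.min'_le S r hr3) (Ne.symm hr2)
    have h7 := lt_of_le_of_ne (Finset.le_max' S r hr3) hr1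
    simp only [hS, Finset.mem_filter, Finset.mem_Icc] at hmin hmax hr3
    exact ⟨_, r, _, hmin.2, hr3.2, hmax.2, by omega, h6, h7, hmax.1.2⟩
  replace h : m < 8209 := h.trans_le (by norm_num1)
  revert h
  refine fun h => three_primes_step 4111 8209 8219 8221 ?_ ?_ ?_ (by norm_num1) (by norm_num1) (by norm_num1) ?_ (h.trans_le (by norm_num1)) <;> try norm_num1
  refine fun h => three_primes_step 2065 4111 4127 4129 ?_ ?_ ?_ (by norm_num1) (by norm_num1) (by norm_num1) ?_ (h.trans_le (by norm_num1)) <;> try norm_num1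
  refine fun h => three_primes_step 1042 2069 2081 2083 ?_ ?_ ?_ (by norm_num1) (by norm_num1) (by norm_num1) ?_ (h.trans_le (by norm_num1)) <;> try norm_num1
  refine fun h => three_primes_step 531 1049 1051 1061 ?_ ?_ ?_ (by norm_num1) (by norm_num1) (by norm_num1) ?_ (h.trans_le (by norm_num1)) <;> try norm_num1
  refine fun h => three_primes_step 279 541 547 557 ?_ ?_ ?_ (by norm_num1) (by norm_num1) (by norm_num1) ?_ (h.trans_le (by norm_num1)) <;> try norm_num1
  refine fun h => three_primes_step 147 281 283 293 ?_ ?_ ?_ (by norm_num1) (by norm_num1) (by norm_num1) ?_ (h.trans_le (by norm_num1)) <;> try norm_num1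
  refine fun h => three_primes_step 79 149 151 157 ?_ ?_ ?_ (by norm_num1) (by norm_num1) (by norm_num1) ?_ (h.trans_le (by norm_num1)) <;> try norm_num1
  refine fun h => three_primes_step 45 79 83 89 ?_ ?_ ?_ (by norm_num1) (by norm_num1) (by norm_num1) ?_ (h.trans_le (by norm_num1)) <;> try norm_num1
  refine fun h => three_primes_step 30 47 53 59 ?_ ?_ ?_ (by norm_num1) (by norm_num1) (by norm_num1) ?_ (h.trans_le (by norm_num1)) <;> try norm_num1
  refine fun h => three_primes_step 21 31 37 41 ?_ ?_ ?_ (by norm_num1) (by norm_num1) (by norm_num1) ?_ (h.trans_le (by norm_num1)) <;> try norm_num1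
  refine fun h => three_primes_step 16 23 29 31 ?_ ?_ ?_ (by norm_num1) (by norm_num1) (by norm_num1) ?_ (h.trans_le (by norm_num1)) <;> try norm_num1
  refine fun h => three_primes_step 12 17 19 23 ?_ ?_ ?_ (by norm_num1) (by norm_num1) (by norm_num1) ?_ (h.trans_le (by norm_num1)) <;> try norm_num1
  refine fun h => three_primes_step 10 13 17 19 ?_ ?_ ?_ (by norm_num1) (by norm_num1) (by norm_num1) ?_ (h.trans_le (by norm_num1)) <;> try norm_num1
  refine fun h => three_primes_step 9 11 13 17 ?_ ?_ ?_ (by norm_num1) (by norm_num1) (by norm_num1) ?_ (h.trans_le (by norm_num1)) <;> try norm_num1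
  exact fun h => absurd h (by omega)

end CfsgLib.NumberTheory
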