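import Mathlib
import Cfsg.Agent.Lib.NumberTheory.Zsigmondy

/-!
# The primitive part of `q ^ e - 1` is at least `3 e + 1`, with thirteen exceptions
-/

namespace CfsgLib.PrimitivePart

open CfsgLib.NumberTheory ArithmeticFunction Polynomial
open scoped ArithmeticFunction.Moebius

theorem prime_mod_one {e q r : ℕ} (hr : r.Prime) (hq : 2 ≤ q) (he : 0 < e)
    (hd : r ∣ q ^ e - 1) (hmin : ∀ i, 1 ≤ i → i < e → ¬ r ∣ q ^ i - 1) :
    (r : ZMod e) = 1 := by
  have h : IsPPD r q e := ⟨hr, hd, fun k hk hke => hmin k hk hke⟩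
  have h1 := h.dvd_sub_one (by omega) he
  rw [← sub_eq_zero, ← Nat.cast_one, ← Nat.cast_sub hr.one_lt.le, ZMod.natCast_eq_zero_iff]
  exact h1

theorem two_mul_totient_sq : ∀ n : ℕ,
    n ≤ 2 * n.totient ^ 2 ∧ (Odd n → n ≤ n.totient ^ 2) := by
  intro n
  induction n using Nat.recOnPrimeCoprime with
  | zero => simp
  | prime_pow p k hp =>
    rcases Nat.eq_zero_or_pos k with rfl | hk
    · simp
    rw [Nat.totient_prime_pow hp hk]
    obtain ⟨j, rfl⟩ : ∃ j, k = j + 1 := ⟨k - 1, by omega⟩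
    rw [Nat.add_sub_cancel]
    have hpj : 1 ≤ p ^ j := Nat.one_le_pow _ _ hp.pos
    rcases hp.eq_two_or_odd' with rfl | hodd
    · refine ⟨?_, fun h => ?_⟩
      · rw [pow_succ]
        nlinarith
      · exact absurd h (Nat.not_odd_iff_even.2 (by simp [parity_simps]))
    · have h3 : 3 ≤ p := by
        have := hp.two_le
        rcases hodd with ⟨c, rfl⟩
        omega
      obtain ⟨c, rfl⟩ : ∃ c, p = c + 3 := ⟨p - 3, by omega⟩
      have : (c + 3) ^ (j + 1) ≤ ((c + 3) ^ j * (c + 3 - 1)) ^ 2 := by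
        rw [pow_succ, show c + 3 - 1 = c + 2 by omega, mul_pow, pow_two ((c + 3) ^ j), mul_assoc]
        refine Nat.mul_le_mul_left _ ?_
        calc c + 3 ≤ 1 * (c + 2) ^ 2 := by nlinarith
          _ ≤ (c + 3) ^ j * (c + 2) ^ 2 := Nat.mul_le_mul_right _ hpj
      exact ⟨le_trans this (Nat.le_mul_of_pos_left _ two_pos), fun _ => this⟩
  | coprime a b ha hb hab iha ihb =>
    rw [Nat.totient_mul hab, mul_pow]
    refine ⟨?_, fun h => ?_⟩
    · rcases Nat.even_or_odd a with hae | hao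
      · rcases Nat.even_or_odd b with hbe | hbo
        · exact absurd (hab ▸ Nat.dvd_gcd hae.two_dvd hbe.two_dvd) (by norm_num)
        · calc a * b ≤ (2 * a.totient ^ 2) * b.totient ^ 2 := Nat.mul_le_mul iha.1 (ihb.2 hbo)
            _ = _ := by ring
      · calc a * b ≤ a.totient ^ 2 * (2 * b.totient ^ 2) := Nat.mul_le_mul (iha.2 hao) ihb.1
          _ = _ := by ring
    · rw [Nat.odd_mul] at h
      exact Nat.mul_le_mul (iha.2 h.1) (ihb.2 h.2)

theorem prod_one_sub_ge : ∀ n : ℕ, 1 ≤ n →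
    (1 / 4 : ℝ) + (1 / 2) ^ (n + 1) ≤ ∏ k ∈ Finset.Icc 1 n, (1 - (1 / 2 : ℝ) ^ k) := by
  intro n hn
  induction n, hn using Nat.le_induction with
  | base => norm_num
  | succ n hn ih =>
    rw [← Finset.insert_Icc_right_eq_Icc_add_one (by omega : 1 ≤ n + 1), Finset.prod_insert (by simp)]
    have h1 : (1 / 2 : ℝ) ^ (n + 1) ≤ 1 / 4 := by
      calc (1 / 2 : ℝ) ^ (n + 1) ≤ (1 / 2 : ℝ) ^ 2 :=
            pow_le_pow_of_le_one (by norm_num) (by norm_num) (by omega)
        _ = 1 / 4 := by norm_num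
    have h2 : 0 ≤ (1 / 2 : ℝ) ^ (n + 1) := by positivity
    have h3 : (1 / 2 : ℝ) ^ (n + 1 + 1) = (1 / 2 : ℝ) ^ (n + 1) * (1 / 2) := pow_succ _ _
    calc _ ≤ (1 - (1 / 2 : ℝ) ^ (n + 1)) * (1 / 4 + (1 / 2) ^ (n + 1)) := by
          rw [h3]; nlinarith
      _ ≤ _ := mul_le_mul_of_nonneg_left ih (by linarith)

/-- `Φ_n(q)` is more than a quarter of `q ^ φ(n)`. -/
theorem pow_totient_le_four_mul_phiVal {n q : ℕ} (hn : 0 < n) (hq : 1 < q) :
    q ^ n.totient ≤ 4 * phiVal n q := by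
  have hqR : (1 : ℝ) < q := by exact_mod_cast hq
  have hq0 : (0 : ℝ) < q := by linarith
  let f : ℕ → ℝ := fun m => (phiVal m q : ℝ) / (q : ℝ) ^ m.totient
  let g : ℕ → ℝ := fun m => 1 - ((q : ℝ)⁻¹) ^ m
  have hxlt : (q : ℝ)⁻¹ < 1 := inv_lt_one_of_one_lt₀ hqR
  have hg : ∀ m, 0 < m → 0 < g m := fun m hm => by
    have := pow_lt_one₀ (a := (q : ℝ)⁻¹) (by positivity) hxlt hm.ne'
    simp only [g]; linarith
  have hf : ∀ m, 0 < m → f m ≠ 0 := fun m _ => by
    refine div_ne_zero ?_ (pow_ne_zero _ hq0.ne')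
    rw [cast_phiVal hq]
    exact (cyclotomic_pos_and_nonneg m (q : ℝ)).1 hqR |>.ne'
  have hprod : ∀ m > 0, ∏ i ∈ m.divisors, f i = g m := by
    intro m hm
    simp only [f]
    rw [Finset.prod_div_distrib, Finset.prod_pow_eq_pow_sum, Nat.sum_totient]
    rw [Finset.prod_congr rfl (fun i _ => cast_phiVal (n := i) hq), ← eval_prod,
      prod_cyclotomic_eq_X_pow_sub_one hm ℝ]
    simp only [eval_sub, eval_pow, eval_X, eval_one, g, inv_pow]
    field_simp
  have hmob := (prod_eq_iff_prod_pow_moebius_eq_of_nonzero hf (fun m hm => (hg m hm).ne')).1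
    hprod n hn
  have key : (1 / 4 : ℝ) ≤ f n := by
    rw [← hmob]
    calc (1 / 4 : ℝ) ≤ ∏ k ∈ Finset.Icc 1 n, (1 - (1 / 2 : ℝ) ^ k) :=
          le_trans (le_add_of_nonneg_right (by positivity)) (prod_one_sub_ge n hn)
      _ ≤ ∏ k ∈ n.divisors, (1 - (1 / 2 : ℝ) ^ k) := by
          refine Finset.prod_le_prod_of_subset_of_le_one ?_ ?_ ?_
          · intro k hk
            exact Finset.mem_Icc.2 ⟨Nat.pos_of_mem_divisors hk, Nat.divisor_le hk⟩
          · intro k _
            have : (1 / 2 : ℝ) ^ k ≤ 1 := pow_le_one₀ (by norm_num) (by norm_num)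
            linarith
          · intro k _ _
            have : 0 ≤ (1 / 2 : ℝ) ^ k := by positivity
            linarith
      _ = ∏ x ∈ n.divisorsAntidiagonal, (1 - (1 / 2 : ℝ) ^ x.2) :=
          (Nat.prod_divisorsAntidiagonal' (fun _ b => (1 - (1 / 2 : ℝ) ^ b))).symm
      _ ≤ _ := by
          refine Finset.prod_le_prod (fun x _ => ?_) (fun x hx => ?_)
          · have : (1 / 2 : ℝ) ^ x.2 ≤ 1 := pow_le_one₀ (by norm_num) (by norm_num)
            linarith
          · have hx2 : 0 < x.2 :=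
              Nat.pos_of_mem_divisors (Nat.snd_mem_divisors_of_mem_antidiagonal hx)
            have hpos := hg x.2 hx2
            have hle : (1 - (1 / 2 : ℝ) ^ x.2) ≤ g x.2 := by
              have h2 : (q : ℝ)⁻¹ ≤ 1 / 2 := by
                rw [one_div]
                exact inv_anti₀ two_pos (by exact_mod_cast hq)
              have := pow_le_pow_left₀ (by positivity) h2 x.2
              simp only [g]; linarith
            have hle1 : g x.2 ≤ 1 := by
              have : 0 ≤ (q : ℝ)⁻¹ ^ x.2 := by positivity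
              simp only [g]; linarith
            rcases moebius_eq_or x.1 with h | h | h <;> rw [h]
            · rw [zpow_zero]; linarith
            · rwa [zpow_one]
            · rw [zpow_neg, zpow_one]
              exact le_trans (hle.trans hle1) (one_le_inv₀ hpos |>.2 hle1)
  simp only [f] at key
  rw [le_div_iff₀ (pow_pos hq0 _)] at key
  have : ((q ^ n.totient : ℕ) : ℝ) ≤ ((4 * phiVal n q : ℕ) : ℝ) := by
    push_cast; linarith
  exact_mod_cast this

/-- A primitive divisor of `q ^ e - 1` of size at least `Φ_e(q) / e`. -/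
theorem exists_primitive_large {q e : ℕ} (hq : 2 ≤ q) (he : 3 ≤ e) :
    ∃ m, m ∣ q ^ e - 1 ∧ (∀ i : ℕ, 1 ≤ i → i < e → Nat.Coprime m (q ^ i - 1)) ∧
      phiVal e q ≤ m * e := by
  have he0 : 0 < e := by omega
  have hdvd := phiVal_dvd_pow_sub_one (n := e) (a := q) (by omega)
  have hnp : ∀ r : ℕ, r.Prime → r ∣ phiVal e q → orderOf (q : ZMod r) ≠ e →
      r ∣ e ∧ ∀ s : ℕ, s.Prime → s ∣ e → s ≤ r := by
    intro r hr hrd hne
    obtain ⟨k, hk, -⟩ := exists_eq_pow_mul_orderOf hr he0 hrd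
    have hm := orderOf_dvd_sub_one_of_dvd_phiVal hr he0 hrd
    have hk0 : k ≠ 0 := by rintro rfl; exact hne (by simpa using hk.symm)
    refine ⟨hk ▸ Dvd.dvd.mul_right (dvd_pow_self r hk0) _, fun s hs hse => ?_⟩
    rw [hk] at hse
    rcases hs.dvd_mul.1 hse with h | h
    · exact Nat.le_of_dvd hr.pos (hs.dvd_of_dvd_pow h)
    · have := Nat.le_of_dvd (by have := hr.two_le; omega) (h.trans hm)
      omega
  have hcop : ∀ m : ℕ, m ∣ phiVal e q →
      (∀ r : ℕ, r.Prime → r ∣ m → orderOf (q : ZMod r) = e) →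
      ∀ i : ℕ, 1 ≤ i → i < e → Nat.Coprime m (q ^ i - 1) := by
    intro m _ hm i hi hie
    refine Nat.coprime_of_dvd fun r hr hrm hri => ?_
    rw [dvd_pow_sub_one_iff_orderOf_dvd (by omega), hm r hr hrm] at hri
    have := Nat.le_of_dvd (by omega) hri
    omega
  by_cases hex : ∃ r : ℕ, r.Prime ∧ r ∣ phiVal e q ∧ orderOf (q : ZMod r) ≠ e
  · obtain ⟨r, hr, hrd, hne⟩ := hex
    obtain ⟨hre, hmax⟩ := hnp r hr hrd hne
    obtain ⟨m, hm⟩ := hrd
    refine ⟨m, (Dvd.intro_left r hm.symm).trans hdvd, hcop m (Dvd.intro_left r hm.symm) ?_, ?_⟩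
    · intro s hs hsm
      by_contra hne'
      obtain ⟨hse, hmax'⟩ := hnp s hs (hm ▸ hsm.mul_left r) hne'
      have : s = r := le_antisymm (hmax s hs hse) (hmax' r hr hre)
      subst this
      refine not_sq_dvd_phiVal hs (by omega) (by omega) hse ⟨m, hm⟩ ?_
      rw [hm, pow_two]
      exact mul_dvd_mul_left s hsm
    · rw [hm, mul_comm r m]
      exact Nat.mul_le_mul_left m (Nat.le_of_dvd he0 hre)
  · push_neg at hex
    exact ⟨phiVal e q, hdvd, hcop _ dvd_rfl fun r hr hrd => hex r hr hrd,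
      Nat.le_mul_of_pos_right _ he0⟩

/-- The values of `e < 1059` with `φ(e) ≤ 23`. -/
def smallE : List ℕ := [3, 4, 5, 6, 7, 8, 9, 10, 11, 12, 13, 14, 15, 16, 17, 18, 19, 20, 21, 22, 23, 24, 25, 26, 27, 28, 30, 32, 33, 34, 36, 38, 40, 42, 44, 46, 48, 50, 54, 60, 66]

/-- Primitive divisors `(q, e, m)` for small parameters. -/
def smallCases : List (ℕ × ℕ × ℕ) := [
    (3, 3, 13), (5, 3, 31), (6, 3, 43), (7, 3, 19), (8, 3, 73),
    (9, 3, 91), (10, 3, 37), (4, 4, 17), (5, 4, 13), (6, 4, 37),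
    (7, 4, 25), (8, 4, 65), (9, 4, 41), (10, 4, 101), (11, 4, 61),
    (12, 4, 145), (13, 4, 85), (14, 4, 197), (2, 5, 31), (3, 5, 121),
    (4, 5, 341), (6, 6, 31), (7, 6, 43), (8, 6, 19), (9, 6, 73),
    (10, 6, 91), (11, 6, 37), (12, 6, 133), (13, 6, 157), (14, 6, 61),
    (15, 6, 211), (16, 6, 241), (17, 6, 91), (18, 6, 307), (19, 6, 343),
    (20, 6, 127), (21, 6, 421), (2, 7, 127), (3, 8, 41), (4, 8, 257),
    (5, 8, 313), (2, 9, 73), (3, 9, 757), (3, 10, 61), (4, 10, 41),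
    (5, 10, 521), (2, 11, 2047), (3, 12, 73), (4, 12, 241), (5, 12, 601),
    (6, 12, 1261), (2, 14, 43), (3, 14, 547), (2, 15, 151), (2, 16, 257),
    (3, 18, 703), (2, 21, 337), (2, 22, 683), (2, 24, 241), (3, 24, 6481),
    (2, 26, 2731), (2, 28, 3277), (2, 30, 331), (3, 30, 8401), (2, 36, 4033),
    (2, 42, 5419)]

/-- The exceptional pairs. -/
def exceptions : List (ℕ × ℕ) :=
  [(2, 6), (2, 4), (2, 10), (2, 12), (2, 18), (3, 4), (3, 6), (5, 6), (2, 3), (2, 8), (2, 20),
    (4, 3), (4, 6)]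

/-- Do at least `need` numbers `≥ k` below `e`, found within the given fuel, have no factor in
common with `e`? -/
def reach (e : ℕ) : ℕ → ℕ → ℕ → Bool
  | _, _, 0 => true
  | 0, _, _ + 1 => false
  | fuel + 1, k, need + 1 =>
    if k < e then (if Nat.gcd e k = 1 then reach e fuel (k + 1) need else reach e fuel (k + 1) (need + 1))
    else false

theorem reach_spec (e : ℕ) : ∀ fuel k need, reach e fuel k need = true →
    need ≤ ((Finset.Ico k e).filter (fun x => Nat.gcd e x = 1)).card := by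
  intro fuel
  induction fuel with
  | zero =>
    intro k need h
    cases need with
    | zero => exact Nat.zero_le _
    | succ n => simp [reach] at h
  | succ f ih =>
    intro k need h
    cases need with
    | zero => exact Nat.zero_le _
    | succ n =>
      simp only [reach] at h
      by_cases hk : k < e
      · rw [if_pos hk] at h
        rw [← Finset.insert_Ico_add_one_left_eq_Ico hk, Finset.filter_insert]
        by_cases hg : Nat.gcd e k = 1
        · rw [if_pos hg] at h ⊢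
          rw [Finset.card_insert_of_notMem (by simp)]
          exact Nat.succ_le_succ (ih _ _ h)
        · rw [if_neg hg] at h ⊢
          exact ih _ _ h
      · simp [hk] at h

theorem reach_or_mem : ∀ e < 1059, 3 ≤ e → e ∈ smallE ∨ reach e e 1 24 = true := by
  decide +kernel

theorem mem_smallE (e : ℕ) (he : e < 1059) (h3 : 3 ≤ e) (ht : e.totient ≤ 23) : e ∈ smallE := by
  refine (reach_or_mem e he h3).resolve_right fun h => ?_
  have h1 := reach_spec e e 1 24 h
  rw [Nat.totient_eq_card_coprime] at ht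
  have : ((Finset.Ico 1 e).filter (fun x => Nat.gcd e x = 1)) ⊆
      (Finset.range e).filter (fun x => e.Coprime x) := by
    intro x hx
    simp only [Finset.mem_filter, Finset.mem_Ico, Finset.mem_range] at hx ⊢
    exact ⟨hx.1.2, hx.2⟩
  have := Finset.card_le_card this
  omega

theorem smallCases_spec : ∀ c ∈ smallCases, c.2.2 ∣ c.1 ^ c.2.1 - 1 ∧
    (∀ i < c.2.1, 1 ≤ i → Nat.Coprime c.2.2 (c.1 ^ i - 1)) ∧ 3 * c.2.1 + 1 ≤ c.2.2 := by
  decide +kernel

theorem small_covered : ∀ e ∈ smallE, ∀ q < 22, 2 ≤ q →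
    q ^ e.totient < 4 * e * (3 * e + 1) → (q, e) ∈ exceptions ∨
      (q, e) ∈ smallCases.map (fun c => (c.1, c.2.1)) := by decide +kernel

theorem small_q : ∀ e ∈ smallE, 4 * e * (3 * e + 1) ≤ 22 ^ e.totient := by decide +kernel

theorem exists_large (q e : ℕ) (hq : 2 ≤ q) (he : 3 ≤ e) (hex : (q, e) ∉ exceptions) :
    ∃ m : ℕ, m ∣ q ^ e - 1 ∧ (∀ i : ℕ, 1 ≤ i → i < e → Nat.Coprime m (q ^ i - 1)) ∧
      3 * e + 1 ≤ m := by
  by_cases hb : 4 * e * (3 * e + 1) ≤ q ^ e.totient
  · obtain ⟨m, hm1, hm2, hm3⟩ := exists_primitive_large hq he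
    refine ⟨m, hm1, hm2, Nat.le_of_mul_le_mul_left (c := 4 * e) ?_ (by omega)⟩
    calc 4 * e * (3 * e + 1) ≤ q ^ e.totient := hb
      _ ≤ 4 * phiVal e q := pow_totient_le_four_mul_phiVal (by omega) (by omega)
      _ ≤ 4 * (m * e) := Nat.mul_le_mul_left 4 hm3
      _ = 4 * e * m := by ring
  rw [not_le] at hb
  have hs : e.totient ≤ 23 := by
    by_contra hs
    rw [not_le] at hs
    have key : ∀ s, 24 ≤ s → 48 * s ^ 4 + 8 * s ^ 2 ≤ 2 ^ s := by
      intro s hs
      induction s, hs using Nat.le_induction with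
      | base => norm_num
      | succ s hs ih =>
        have h1 : 24 * s ^ 3 ≤ s * s ^ 3 := Nat.mul_le_mul_right _ hs
        have h2 : 24 * s ^ 2 ≤ s * s ^ 2 := Nat.mul_le_mul_right _ hs
        have h3 : 24 * s ≤ s * s := Nat.mul_le_mul_right _ hs
        rw [pow_succ 2 s]
        nlinarith
    have h1 := (two_mul_totient_sq e).1
    have h2 : 2 ^ e.totient ≤ q ^ e.totient := Nat.pow_le_pow_left hq _
    have h3 := key _ hs
    nlinarith
  have he' : e < 1059 := by
    have := (two_mul_totient_sq e).1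
    nlinarith
  have hmem := mem_smallE e he' he hs
  have hq22 : q < 22 := by
    by_contra h
    rw [not_lt] at h
    have := Nat.pow_le_pow_left h e.totient
    have := small_q e hmem
    omega
  rcases small_covered e hmem q hq22 hq hb with h | h
  · exact absurd h hex
  · obtain ⟨⟨a, b, m⟩, hc, heq⟩ := List.mem_map.1 h
    obtain ⟨rfl, rfl⟩ : a = q ∧ b = e := Prod.ext_iff.1 heq
    obtain ⟨h1, h2, h3⟩ := smallCases_spec _ hc
    exact ⟨m, h1, fun i hi hie => h2 i hie hi, h3⟩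

theorem exceptions_spec : ∀ c ∈ exceptions,
    (c.1 ^ c.2 - 1) / Nat.gcd (c.1 ^ c.2 - 1)
      (((List.range c.2).tail.map fun i => c.1 ^ i - 1).prod ^ 20) ≤ 2 * c.2 + 1 := by
  decide +kernel

theorem le_of_exception (q e m : ℕ) (hex : (q, e) ∈ exceptions) (hm : m ∣ q ^ e - 1)
    (hcop : ∀ i : ℕ, 1 ≤ i → i < e → Nat.Coprime m (q ^ i - 1)) : m ≤ 2 * e + 1 := by
  refine le_trans ?_ (exceptions_spec (q, e) hex)
  dsimp only
  set P := ((List.range e).tail.map fun i => q ^ i - 1).prod ^ 20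
  have hP : Nat.Coprime m P := by
    refine Nat.Coprime.pow_right _ (Nat.coprime_list_prod_right_iff.2 ?_)
    intro x hx
    obtain ⟨i, hi, rfl⟩ := List.mem_map.1 hx
    have hi' : i < e := List.mem_range.1 (List.mem_of_mem_tail hi)
    refine hcop i ?_ hi'
    rw [List.range_eq_range'] at hi
    cases e with
    | zero => simp at hi'
    | succ e =>
      rw [List.range'_succ, List.tail_cons, List.mem_range'_1] at hi
      omega
  have h1 : m * Nat.gcd (q ^ e - 1) P ∣ q ^ e - 1 :=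
    (Nat.Coprime.coprime_dvd_right (Nat.gcd_dvd_right _ _) hP).mul_dvd_of_dvd_of_dvd hm
      (Nat.gcd_dvd_left _ _)
  have hpos : 0 < q ^ e - 1 := by
    have hall : ∀ c ∈ exceptions, 0 < c.1 ^ c.2 - 1 := by decide +kernel
    exact hall (q, e) hex
  rw [Nat.le_div_iff_mul_le (Nat.gcd_pos_of_pos_left _ hpos)]
  exact Nat.le_of_dvd hpos h1

end CfsgLib.PrimitivePart
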